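import Groth.Agent.Lib.Kollar3.Core
import Groth.Agent.Lib.LC.BaseChange
import Groth.Agent.Lib.LC.FiniteH1

/-!
# Kollár's criterion for modules
-/

set_option autoImplicit false
set_option linter.style.haveILetI false
universe u

open IsLocalRing

namespace GrothLib.Kollar3

variable {A : Type u} [CommRing A] [IsNoetherianRing A]

/-- The local rings of `A/p` are the `A_q/pA_q`. -/
theorem isLocalization_quotient (p : Ideal A) (q : PrimeSpectrum (A ⧸ p)) :
    letI : Algebra (A ⧸ p) (Localization.AtPrime (q.asIdeal.comap (Ideal.Quotient.mk p)) ⧸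
        p.map (algebraMap A (Localization.AtPrime (q.asIdeal.comap (Ideal.Quotient.mk p))))) :=
      (Ideal.quotientMap _ (algebraMap A _) Ideal.le_comap_map).toAlgebra
    IsLocalization.AtPrime (Localization.AtPrime (q.asIdeal.comap (Ideal.Quotient.mk p)) ⧸
        p.map (algebraMap A (Localization.AtPrime (q.asIdeal.comap (Ideal.Quotient.mk p))))) q.asIdeal := by
  set Q := q.asIdeal.comap (Ideal.Quotient.mk p) with hQ
  let L := Localization.AtPrime Q
  letI : Algebra (A ⧸ p) (L ⧸ p.map (algebraMap A L)) :=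
    (Ideal.quotientMap _ (algebraMap A L) Ideal.le_comap_map).toAlgebra
  have h := IsLocalization.of_surjective Q.primeCompl (S := L) (Ideal.Quotient.mk p) Ideal.Quotient.mk_surjective
    (Ideal.Quotient.mk (p.map (algebraMap A L))) Ideal.Quotient.mk_surjective (RingHom.ext fun _ => rfl)
    (by rw [Ideal.mk_ker, Ideal.mk_ker])
  have he : Q.primeCompl.map (Ideal.Quotient.mk p) = q.asIdeal.primeCompl := by
    ext x
    refine ⟨fun ⟨y, hy, hyx⟩ => hyx ▸ fun hmem => hy hmem, fun hx => ?_⟩
    obtain ⟨y, rfl⟩ := Ideal.Quotient.mk_surjective x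
    exact ⟨y, fun hy => hx hy, rfl⟩
  rw [he] at h
  exact h

/-- **Kollár's criterion**. -/
theorem finite_H_one_module (I : Ideal A) (M : Type u) [AddCommGroup M] [Module A M] [Module.Finite A M]
    (h : ∀ p : Ideal A, p ∈ associatedPrimes A M → ¬ I ≤ p → ∀ (q : PrimeSpectrum A), p ≤ q.asIdeal →
      I ≤ q.asIdeal → ∀ P ∈ associatedPrimes
        (AdicCompletion ((maximalIdeal (Localization.AtPrime q.asIdeal)).map
          (Ideal.Quotient.mk (p.map (algebraMap A (Localization.AtPrime q.asIdeal)))))
          (Localization.AtPrime q.asIdeal ⧸ p.map (algebraMap A (Localization.AtPrime q.asIdeal))))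
        (AdicCompletion ((maximalIdeal (Localization.AtPrime q.asIdeal)).map
          (Ideal.Quotient.mk (p.map (algebraMap A (Localization.AtPrime q.asIdeal)))))
          (Localization.AtPrime q.asIdeal ⧸ p.map (algebraMap A (Localization.AtPrime q.asIdeal)))),
        (2 : WithBot ℕ∞) ≤ ringKrullDim
          (AdicCompletion ((maximalIdeal (Localization.AtPrime q.asIdeal)).map
            (Ideal.Quotient.mk (p.map (algebraMap A (Localization.AtPrime q.asIdeal)))))
            (Localization.AtPrime q.asIdeal ⧸ p.map (algebraMap A (Localization.AtPrime q.asIdeal))) ⧸ P)) :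
    Module.Finite A (LocCoh.H I 1 M) := by
  refine (GrothLib.LC.FiniteH1.main I (M := M)).2 fun p hp hIp => ?_
  show Module.Finite A (LocCoh.H I 1 (A ⧸ p))
  haveI : Module.Finite (A ⧸ p) (LocCoh.H (I.map (algebraMap A (A ⧸ p))) 1 (A ⧸ p)) := by
    refine finite_H_one fun q hq => ?_
    let Q : PrimeSpectrum A := ⟨q.asIdeal.comap (Ideal.Quotient.mk p), inferInstance⟩
    have hpQ : p ≤ Q.asIdeal := fun a ha => by
      show Ideal.Quotient.mk p a ∈ q.asIdeal
      rw [Ideal.Quotient.eq_zero_iff_mem.2 ha]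
      exact zero_mem _
    letI : Algebra (A ⧸ p) (Localization.AtPrime Q.asIdeal ⧸ p.map (algebraMap A (Localization.AtPrime Q.asIdeal))) :=
      (Ideal.quotientMap _ (algebraMap A _) Ideal.le_comap_map).toAlgebra
    have hloc : IsLocalization.AtPrime
        (Localization.AtPrime Q.asIdeal ⧸ p.map (algebraMap A (Localization.AtPrime Q.asIdeal))) q.asIdeal :=
      isLocalization_quotient p q
    haveI hlr : IsLocalRing (Localization.AtPrime Q.asIdeal ⧸ p.map (algebraMap A (Localization.AtPrime Q.asIdeal))) :=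
      @IsLocalization.AtPrime.isLocalRing _ _ _ _ _ q.asIdeal _ hloc
    refine ⟨_, inferInstance, inferInstance, hloc, hlr, ?_⟩
    have hK : (maximalIdeal (Localization.AtPrime Q.asIdeal)).map
        (Ideal.Quotient.mk (p.map (algebraMap A (Localization.AtPrime Q.asIdeal)))) =
        maximalIdeal (Localization.AtPrime Q.asIdeal ⧸ p.map (algebraMap A (Localization.AtPrime Q.asIdeal))) :=
      IsLocalRing.map_maximalIdeal_of_surjective _ Ideal.Quotient.mk_surjective
    exact (fun K (hK' : K = maximalIdeal _) (h' : ∀ P ∈ associatedPrimes (AdicCompletion K _) (AdicCompletion K _),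
      (2 : WithBot ℕ∞) ≤ ringKrullDim (AdicCompletion K
        (Localization.AtPrime Q.asIdeal ⧸ p.map (algebraMap A (Localization.AtPrime Q.asIdeal))) ⧸ P)) => by
      subst hK'; exact fun P hP _ => h' P hP) _ hK
      (h p hp hIp Q hpQ (fun a ha => hq (Ideal.mem_map_of_mem _ ha)))
  obtain ⟨φ, hφ⟩ := GrothLib.LC.exists_H_addEquiv_restrictScalars (R := A) (R' := A ⧸ p) I 1 (A ⧸ p)
  obtain ⟨s, hs⟩ := (inferInstance :
    Module.Finite (A ⧸ p) (LocCoh.H (I.map (algebraMap A (A ⧸ p))) 1 (A ⧸ p))).fg_top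
  classical
  refine ⟨⟨s.image φ, eq_top_iff.2 fun y hy => ?_⟩⟩
  clear hy
  obtain ⟨x, rfl⟩ := φ.surjective y
  have hx : x ∈ Submodule.span (A ⧸ p) (s : Set (LocCoh.H (I.map (algebraMap A (A ⧸ p))) 1 (A ⧸ p))) :=
    hs ▸ Submodule.mem_top
  induction hx using Submodule.span_induction with
  | mem z hz => exact Submodule.subset_span (Finset.mem_image_of_mem _ hz)
  | zero => rw [map_zero]; exact zero_mem _
  | add a b _ _ ha hb => rw [map_add]; exact add_mem ha hb
  | smul r z _ hz =>
    obtain ⟨r, rfl⟩ := Ideal.Quotient.mk_surjective r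
    rw [show Ideal.Quotient.mk p r = algebraMap A (A ⧸ p) r from rfl, hφ]
    exact Submodule.smul_mem _ _ hz

end GrothLib.Kollar3
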