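import Groth.Agent.Lib.Kollar3.Quot
import Groth.Agent.Lib.RatliffUC3.Main
import Groth.Agent.Lib.N2.AnUnram
import Groth.Agent.Lib.FibPd.SerreOne
import Groth.Agent.Lib.SnFibres.Basic
import Groth.Agent.Lib.Excellent.QuotientCompletion

/-!
# Kollár's criterion over universally catenary rings
-/

set_option autoImplicit false
set_option linter.style.haveILetI false
universe u

open IsLocalRing TensorProduct

namespace GrothLib.Kollar3

/-- The completion of a universally catenary local domain without embedded primes has all its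
associated components of the same dimension. -/
theorem le_ringKrullDim_quotient {R : Type u} [CommRing R] [IsDomain R] [IsLocalRing R] [IsNoetherianRing R]
    (hR : CAlg.IsUniversallyCatenary R) (K : Ideal R) (hK : K = maximalIdeal R) (d : WithBot ℕ∞) (hd : d ≤ ringKrullDim R)
    (hemb : ∀ P ∈ associatedPrimes (EGA4.Cpl R) (EGA4.Cpl R), P ∈ minimalPrimes (EGA4.Cpl R))
    (P : Ideal (AdicCompletion K R)) (hP : P ∈ associatedPrimes (AdicCompletion K R) (AdicCompletion K R)) :
    d ≤ ringKrullDim (AdicCompletion K R ⧸ P) := by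
  subst hK
  obtain ⟨n, hn⟩ := ENat.ne_top_iff_exists.1
    (Ideal.height_ne_top (I := maximalIdeal R) Ideal.IsPrime.ne_top')
  have heq := GrothLib.RatliffUC3.isFormallyEquidim n R hR hn.ge
  rw [heq P (hemb P hP), GrothLib.Ratliff.ringKrullDim_cpl]
  exact hd

/-- An associated prime surviving in a localisation without embedded primes is minimal. -/
theorem mem_minimalPrimes_of_localization {B : Type u} [CommRing B] [IsNoetherianRing B] (S : Submonoid B)
    (T : Type u) [CommRing T] [Algebra B T] [IsLocalization S T] (hT : LocCoh.HasSk 1 T T)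
    (P : Ideal B) (hP : P ∈ associatedPrimes B B) (hdisj : Disjoint (S : Set B) P) : P ∈ minimalPrimes B := by
  haveI : IsNoetherianRing T := IsLocalization.isNoetherianRing S T inferInstance
  haveI := hP.isPrime
  have hcomap : (P.map (algebraMap B T)).comap (algebraMap B T) = P :=
    IsLocalization.under_map_of_isPrime_disjoint S T ‹_› hdisj
  haveI : IsLocalizedModule S (Algebra.linearMap B T) := (isLocalizedModule_iff_isLocalization' S T).2 inferInstance
  have hass : P.map (algebraMap B T) ∈ associatedPrimes T T :=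
    Module.associatedPrimes.mem_associatedPrimes_of_comap_mem_associatedPrimes_of_isLocalizedModule
      S (Algebra.linearMap B T) _ (hcomap.symm ▸ hP)
  have hmin := (GrothLib.FibPd.hasSk_one_iff T).1 hT _ hass
  refine ⟨⟨‹_›, bot_le⟩, fun Q hQ hQP => ?_⟩
  have hdQ : Disjoint (S : Set B) Q := hdisj.mono_right hQP
  have := hmin.2 ⟨IsLocalization.isPrime_of_isPrime_disjoint S T Q hQ.1 hdQ, bot_le⟩ (Ideal.map_mono hQP)
  rw [← hcomap, ← IsLocalization.under_map_of_isPrime_disjoint S T hQ.1 hdQ]
  exact Ideal.comap_mono this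

/-- No embedded primes in the completion of a quotient domain, from `(S₁)` of the formal fibre. -/
theorem mem_minimalPrimes_of_fibre {L : Type u} [CommRing L] [IsLocalRing L] [IsNoetherianRing L]
    (h : EGA4.HasSnFormalFibres 1 L) (P0 : Ideal L) [P0.IsPrime] [IsLocalRing (L ⧸ P0)]
    (P : Ideal (EGA4.Cpl (L ⧸ P0))) (hP : P ∈ associatedPrimes (EGA4.Cpl (L ⧸ P0)) (EGA4.Cpl (L ⧸ P0))) :
    P ∈ minimalPrimes (EGA4.Cpl (L ⧸ P0)) := by
  let R := L ⧸ P0
  let B := EGA4.Cpl R
  let κ := P0.ResidueField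
  obtain ⟨e⟩ := GrothLib.Excellent.exists_cpl_quotient_equiv L P0
  let ee : P0.Fiber (EGA4.Cpl L) ≃+* κ ⊗[R] B :=
    (Algebra.TensorProduct.cancelBaseChange L R κ κ (EGA4.Cpl L)).symm.toRingEquiv.trans
      (Algebra.TensorProduct.congr (AlgEquiv.refl : κ ≃ₐ[κ] κ) e.symm).toRingEquiv
  letI : Algebra B (κ ⊗[R] B) := Algebra.TensorProduct.rightAlgebra
  let S := Algebra.algebraMapSubmonoid B (nonZeroDivisors R)
  haveI : IsFractionRing R κ := inferInstanceAs (IsFractionRing (L ⧸ P0) P0.ResidueField)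
  haveI : IsLocalizedModule (nonZeroDivisors R) (IsScalarTower.toAlgHom R B (κ ⊗[R] B)).toLinearMap :=
    (isLocalizedModule_iff_isBaseChange (nonZeroDivisors R) κ _).2 (TensorProduct.isBaseChange _ _ _)
  haveI : IsLocalization S (κ ⊗[R] B) := isLocalizedModule_iff_isLocalization.1 inferInstance
  haveI : IsNoetherianRing (κ ⊗[R] B) := IsLocalization.isNoetherianRing S (κ ⊗[R] B) inferInstance
  haveI : IsNoetherianRing (P0.Fiber (EGA4.Cpl L)) := isNoetherianRing_of_ringEquiv (κ ⊗[R] B) ee.symm
  have hT : LocCoh.HasSk 1 (κ ⊗[R] B) (κ ⊗[R] B) := GrothLib.SnFibres.hasSk_congr ee (h P0)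
  haveI : P.IsPrime := hP.isPrime
  haveI : Module.FaithfullyFlat R B := GrothLib.Excellent.faithfullyFlat_cpl R
  have hdisj : Disjoint (S : Set B) P := by
    rw [Set.disjoint_left]
    rintro _ ⟨r, hr, rfl⟩ hrP
    have hreg : IsSMulRegular B (algebraMap R B r) :=
      (IsSMulRegular.of_right_eq_zero_of_smul fun a (ha : r • a = 0) =>
        (mul_eq_zero.1 ha).resolve_left (nonZeroDivisors.ne_zero hr)).of_flat
    have hz : algebraMap R B r ∈ ⋃ Q ∈ associatedPrimes B B, (Q : Set B) := Set.mem_biUnion hP hrP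
    rw [biUnion_associatedPrimes_eq_zero_divisors] at hz
    obtain ⟨z, hz0, hz⟩ := hz
    exact hz0 (hreg (hz.trans (smul_zero _).symm))
  exact mem_minimalPrimes_of_localization S (κ ⊗[R] B) hT P hP hdisj

/-- **Kollár's criterion** over a universally catenary ring. -/
theorem finite_H_one_of_catenary {A : Type u} [CommRing A] [IsNoetherianRing A] (hA : CAlg.IsUniversallyCatenary A)
    (I : Ideal A) (M : Type u) [AddCommGroup M] [Module A M] [Module.Finite A M]
    (h : ∀ (p q : PrimeSpectrum A) (hpq : p ≤ q), p.asIdeal ∈ associatedPrimes A M → ¬ I ≤ p.asIdeal → I ≤ q.asIdeal →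
      (2 : ℕ∞) ≤ Order.height (⟨q, hpq⟩ : Set.Ici p))
    (hemb : ∀ (q : PrimeSpectrum A), I ≤ q.asIdeal → ∀ (P0 : Ideal (Localization.AtPrime q.asIdeal)) [P0.IsPrime]
      [IsLocalRing (Localization.AtPrime q.asIdeal ⧸ P0)],
      ∀ P ∈ associatedPrimes (EGA4.Cpl (Localization.AtPrime q.asIdeal ⧸ P0)) (EGA4.Cpl (Localization.AtPrime q.asIdeal ⧸ P0)),
        P ∈ minimalPrimes (EGA4.Cpl (Localization.AtPrime q.asIdeal ⧸ P0))) :
    Module.Finite A (LocCoh.H I 1 M) := by
  refine finite_H_one_module I M fun p hp hIp q hpq hIq => ?_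
  haveI := hp.isPrime
  let L := Localization.AtPrime q.asIdeal
  have hdis : ∀ r : PrimeSpectrum A, r ≤ q → Disjoint (q.asIdeal.primeCompl : Set A) r.asIdeal := fun r hr =>
    Set.disjoint_left.2 fun a ha har => ha (hr har)
  haveI : (p.map (algebraMap A L)).IsPrime :=
    IsLocalization.isPrime_of_isPrime_disjoint q.asIdeal.primeCompl L p ‹_› (hdis ⟨p, ‹_›⟩ hpq)
  haveI : IsNoetherianRing L := IsLocalization.isNoetherianRing q.asIdeal.primeCompl _ inferInstance
  haveI : IsLocalRing (L ⧸ p.map (algebraMap A L)) :=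
    IsLocalRing.of_surjective' (Ideal.Quotient.mk _) Ideal.Quotient.mk_surjective
  have hUC : CAlg.IsUniversallyCatenary (L ⧸ p.map (algebraMap A L)) :=
    GrothLib.Altitude.isUniversallyCatenary_of_surjective _ Ideal.Quotient.mk_surjective
      (GrothLib.Excellent.isUniversallyCatenary_localization q.asIdeal.primeCompl hA)
  intro P hP
  refine le_ringKrullDim_quotient hUC _ (IsLocalRing.map_maximalIdeal_of_surjective _ Ideal.Quotient.mk_surjective)
    2 ?_ (hemb q hIq (p.map (algebraMap A L))) P hP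
  -- the dimension of `A_q/pA_q`
  obtain ⟨s, hs, hlen⟩ := Order.exists_series_of_le_height _ (h ⟨p, ‹_›⟩ q hpq hp hIp hIq)
  let T : Fin (s.length + 1) → PrimeSpectrum (L ⧸ p.map (algebraMap A L)) := fun i =>
    have hle : (s i).1 ≤ q := by
      have h1 : s i ≤ s.last := s.monotone (Fin.le_last i)
      rw [hs] at h1
      exact h1
    haveI : ((s i).1.asIdeal.map (algebraMap A L)).IsPrime :=
      IsLocalization.isPrime_of_isPrime_disjoint q.asIdeal.primeCompl L _ (s i).1.2 (hdis _ hle)
    ⟨((s i).1.asIdeal.map (algebraMap A L)).map (Ideal.Quotient.mk _),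
      Ideal.isPrime_map_quotientMk_of_isPrime (Ideal.map_mono (s i).2)⟩
  have hback : ∀ i, (T i).asIdeal.comap ((Ideal.Quotient.mk _).comp (algebraMap A L)) = (s i).1.asIdeal := fun i => by
    have hle : (s i).1 ≤ q := by
      have h1 : s i ≤ s.last := s.monotone (Fin.le_last i)
      rw [hs] at h1
      exact h1
    show ((((s i).1.asIdeal.map (algebraMap A L)).map (Ideal.Quotient.mk _)).comap _) = _
    rw [← Ideal.comap_comap, Ideal.comap_map_of_surjective' _ Ideal.Quotient.mk_surjective, Ideal.mk_ker,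
      sup_eq_left.2 (Ideal.map_mono (show p ≤ (s i).1.asIdeal from (s i).2))]
    exact IsLocalization.under_map_of_isPrime_disjoint q.asIdeal.primeCompl L (s i).1.2 (hdis _ hle)
  have hT : StrictMono T := fun i j hij => by
    refine lt_of_le_of_ne (Ideal.map_mono (Ideal.map_mono (s.monotone hij.le))) fun he => ?_
    exact (s.strictMono hij).ne (Subtype.ext (PrimeSpectrum.ext (by rw [← hback i, ← hback j, he])))
  refine le_trans ?_ (Order.LTSeries.length_le_krullDim (LTSeries.mk s.length T hT))
  show (2 : WithBot ℕ∞) ≤ (s.length : WithBot ℕ∞)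
  exact_mod_cast hlen.ge

end GrothLib.Kollar3
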