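import Groth.Agent.Lib.Faltings.Finite
import Groth.Agent.Lib.Faltings.LowerBound
import Groth.Agent.Lib.Faltings.UpperBound
import Groth.Agent.Lib.Ratliff.EssFiniteType
import Groth.Agent.Lib.Hensel.CompletionHens
import Groth.Agent.Lib.N2.Completion

/-!
# Kollár's criterion for finiteness of `H¹`
-/

set_option autoImplicit false
set_option linter.style.haveILetI false
universe u

open TensorProduct IsLocalRing
open GrothLib.Faltings

namespace GrothLib.Kollar3

variable {D : Type u} [CommRing D] [IsNoetherianRing D] (J : Ideal D)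

/-- Powers of the elements of `J` kill `H¹` after base change. -/
def Kd (S : Type u) [CommRing S] [Algebra D S] : Prop :=
  ∀ a ∈ J, Killed (J.map (algebraMap D S)) (algebraMap D S a) 1 S

variable {J}

theorem kd_baseChange {S S' : Type u} [CommRing S] [CommRing S'] [Algebra D S] [Algebra D S'] [Algebra S S']
    [IsScalarTower D S S'] [IsNoetherianRing S] [IsNoetherianRing S'] [Module.Flat S S'] (h : Kd J S) : Kd J S' := by
  intro a ha
  have h1 := ((h a ha).baseChange (R' := S')).of_equiv
    (TensorProduct.AlgebraTensorModule.rid S S' S')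
  rwa [Ideal.map_map, ← IsScalarTower.algebraMap_eq, ← IsScalarTower.algebraMap_apply] at h1

theorem kd_descent {S S' : Type u} [CommRing S] [CommRing S'] [Algebra D S] [Algebra D S'] [Algebra S S']
    [IsScalarTower D S S'] [IsNoetherianRing S] [IsNoetherianRing S'] [Module.FaithfullyFlat S S'] (h : Kd J S') :
    Kd J S := by
  intro a ha
  obtain ⟨e⟩ := GrothLib.LC.nonempty_baseChange_equiv (R' := S') (J.map (algebraMap D S)) 1 S
  have hK : Killed ((J.map (algebraMap D S)).map (algebraMap S S')) (algebraMap S S' (algebraMap D S a)) 1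
      (S' ⊗[S] S) := by
    have h0 := h a ha
    rw [IsScalarTower.algebraMap_apply D S S' a, IsScalarTower.algebraMap_eq D S S', ← Ideal.map_map] at h0
    exact h0.of_equiv (TensorProduct.AlgebraTensorModule.rid S S' S').symm
  obtain ⟨k, hk⟩ := hK
  refine ⟨k, fun z => ?_⟩
  have h1 : (1 : S') ⊗ₜ[S] (algebraMap D S a ^ k • z) = 0 := by
    refine e.injective ?_
    rw [map_zero, TensorProduct.tmul_smul, ← algebraMap_smul S', map_pow]
    exact (map_smul e _ _).trans (hk _)
  exact Module.FaithfullyFlat.tensorProduct_mk_injective (A := S) (B := S') _ (h1.trans (TensorProduct.tmul_zero _ _).symm)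

theorem kd_of_map_eq_top {S : Type u} [CommRing S] [Algebra D S] (h : J.map (algebraMap D S) = ⊤) : Kd J S := by
  refine fun a _ => ⟨0, fun z => ?_⟩
  obtain ⟨n, hn⟩ := GrothLib.LC.isPowerTorsion (J.map (algebraMap D S)) 1 (ModuleCat.of S S) z
  rw [pow_zero, one_smul]
  have h1 := hn 1 (by rw [h, Ideal.top_pow]; trivial)
  rwa [one_smul] at h1

theorem killed_of_mem_map {S : Type u} [CommRing S] [Algebra D S] [IsNoetherianRing S] (h : Kd J S) {x : S}
    (hx : x ∈ J.map (algebraMap D S)) : Killed (J.map (algebraMap D S)) x 1 S := by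
  have hle : J.map (algebraMap D S) ≤
      (Module.annihilator S (LocCoh.H (J.map (algebraMap D S)) 1 S)).radical := by
    rw [Ideal.map_le_iff_le_comap]
    intro a ha
    obtain ⟨k, hk⟩ := h a ha
    exact ⟨k, Module.mem_annihilator.2 hk⟩
  obtain ⟨k, hk⟩ := hle hx
  exact ⟨k, Module.mem_annihilator.1 hk⟩

theorem exists_completion_data (R : Type u) [CommRing R] [IsLocalRing R] [IsNoetherianRing R] :
    Module.FaithfullyFlat R (AdicCompletion (maximalIdeal R) R) :=
  Module.FaithfullyFlat.of_flat_of_isLocalHom

/-- Kollár's condition at a localisation. -/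
def Hyp (J : Ideal D) : Prop :=
  ∀ q : PrimeSpectrum D, J ≤ q.asIdeal → ∃ (R : Type u) (_ : CommRing R) (_ : Algebra D R)
    (_ : IsLocalization.AtPrime R q.asIdeal) (_ : IsLocalRing R),
    ∀ P ∈ associatedPrimes (AdicCompletion (maximalIdeal R) R) (AdicCompletion (maximalIdeal R) R),
      ¬ J.map (algebraMap D (AdicCompletion (maximalIdeal R) R)) ≤ P →
      (2 : WithBot ℕ∞) ≤ ringKrullDim (AdicCompletion (maximalIdeal R) R ⧸ P)

/-- One step of the induction. -/
theorem kd_step {q : PrimeSpectrum D} (R : Type u) [CommRing R] [Algebra D R] [IsLocalization.AtPrime R q.asIdeal]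
    [IsLocalRing R]
    (hR : ∀ P ∈ associatedPrimes (AdicCompletion (maximalIdeal R) R) (AdicCompletion (maximalIdeal R) R),
      ¬ J.map (algebraMap D (AdicCompletion (maximalIdeal R) R)) ≤ P →
      (2 : WithBot ℕ∞) ≤ ringKrullDim (AdicCompletion (maximalIdeal R) R ⧸ P))
    (ih : ∀ q' : PrimeSpectrum D, q' < q → Kd J (Localization.AtPrime q'.asIdeal)) :
    Kd J (Localization.AtPrime q.asIdeal) := by
  haveI : IsNoetherianRing R := IsLocalization.isNoetherianRing q.asIdeal.primeCompl R inferInstance
  haveI : IsNoetherianRing (Localization.AtPrime q.asIdeal) :=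
    IsLocalization.isNoetherianRing q.asIdeal.primeCompl _ inferInstance
  suffices hKR : Kd J R by
    letI : Algebra R (Localization.AtPrime q.asIdeal) :=
      (IsLocalization.algEquiv q.asIdeal.primeCompl R (Localization.AtPrime q.asIdeal)).toAlgHom.toRingHom.toAlgebra
    haveI : IsScalarTower D R (Localization.AtPrime q.asIdeal) :=
      IsScalarTower.of_algebraMap_eq fun d =>
        ((IsLocalization.algEquiv q.asIdeal.primeCompl R (Localization.AtPrime q.asIdeal)).commutes d).symm
    haveI : Module.Flat R (Localization.AtPrime q.asIdeal) :=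
      (Module.flat_iff_of_isLocalization R q.asIdeal.primeCompl _).2
        (IsLocalization.flat (Localization.AtPrime q.asIdeal) q.asIdeal.primeCompl)
    exact kd_baseChange hKR
  let B := AdicCompletion (maximalIdeal R) R
  haveI := exists_completion_data R
  suffices hKB : Kd J B from kd_descent hKB
  obtain ⟨R0, _, _, π, hπ⟩ := GrothLib.Ratliff.exists_regular_surjection B
  set JB := J.map (algebraMap D B) with hJB
  have hmin : (2 : ℕ∞) ≤ LocCoh.finDimRel JB JB B := by
    refine le_trans ?_ (minAdjDepth_le_finDimRel π hπ JB JB B)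
    refine le_iInf₂ fun P hP => ?_
    have hPr := P.isPrime
    rcases hsup : eq_or_ne (JB ⊔ P.asIdeal) ⊤ with htop | htop
    · rw [LocCoh.adjDepth, show ((JB ⊔ P.asIdeal).map (Ideal.Quotient.mk P.asIdeal)).height = ⊤ from
        (congrArg (relHeight P.asIdeal) htop).trans (relHeight_top _), add_top]
      exact le_top
    obtain ⟨Q, hQ, hQh⟩ := exists_minimalPrime_relHeight_eq JB P.asIdeal htop
    haveI := hQ.1.1
    have hPQ : P.asIdeal < Q :=
      lt_of_le_of_ne (le_sup_right.trans hQ.1.2) fun he => hP (he ▸ (le_sup_left.trans hQ.1.2))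
    have hh1 := one_le_relHeight _ _ hPQ
    by_cases hd : (1 : ℕ∞) ≤ LocCoh.depth (Localization.AtPrime P.asIdeal) (LocalizedModule P.asIdeal.primeCompl B)
    · show (2 : ℕ∞) ≤ _ + relHeight P.asIdeal (JB ⊔ P.asIdeal)
      rw [← hQh, ← one_add_one_eq_two]
      exact add_le_add hd hh1
    rw [ENat.one_le_iff_ne_zero, not_not] at hd
    by_contra hlt
    change ¬ (2 : ℕ∞) ≤ _ + relHeight P.asIdeal (JB ⊔ P.asIdeal) at hlt
    rw [hd, zero_add, ← hQh] at hlt
    have hh : relHeight P.asIdeal Q = 1 := le_antisymm (Order.le_of_lt_add_one (by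
      rw [one_add_one_eq_two]; exact not_le.1 hlt)) hh1
    have hPass : P.asIdeal ∈ associatedPrimes B B :=
      mem_associatedPrimes_of_depth_zero P.asIdeal hd
    have hQm : Q ≠ maximalIdeal B := by
      intro hQm
      haveI : Nontrivial (B ⧸ P.asIdeal) := Ideal.Quotient.nontrivial_iff.2 hPr.ne_top
      haveI : IsLocalRing (B ⧸ P.asIdeal) := IsLocalRing.of_surjective' _ Ideal.Quotient.mk_surjective
      have hdim : ringKrullDim (B ⧸ P.asIdeal) = ((relHeight P.asIdeal Q : ℕ∞) : WithBot ℕ∞) := by
        rw [← IsLocalRing.maximalIdeal_height_eq_ringKrullDim, relHeight, hQm]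
        congr 2
        exact (IsLocalRing.eq_maximalIdeal ((Ideal.map_eq_top_or_isMaximal_of_surjective _
          Ideal.Quotient.mk_surjective (maximalIdeal.isMaximal B)).resolve_left fun h0 => (maximalIdeal.isMaximal B).ne_top
            (eq_top_iff.2 fun x _ => by
              have h2 := Ideal.comap_map_of_surjective (Ideal.Quotient.mk P.asIdeal) Ideal.Quotient.mk_surjective
                (maximalIdeal B)
              rw [h0, Ideal.comap_top, ← RingHom.ker_eq_comap_bot, Ideal.mk_ker,
                sup_eq_left.2 (le_maximalIdeal hPr.ne_top)] at h2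
              exact h2.le Submodule.mem_top))).symm
      have h2 := hR P.asIdeal hPass hP
      rw [hdim, hh] at h2
      exact absurd (WithBot.coe_le_coe.1 h2 : (2 : ℕ∞) ≤ 1) (by decide)
    -- the prime below `Q` in `D`
    let q₁ : PrimeSpectrum D := ⟨Q.comap (algebraMap D B), inferInstance⟩
    let Q' := Q.comap (algebraMap R B)
    have hq₁le : q₁.asIdeal ≤ q.asIdeal := fun d hd => by
      by_contra hdq
      exact (Ideal.IsPrime.ne_top (inferInstance : Q'.IsPrime)) (Q'.eq_top_of_isUnit_mem
        (show algebraMap D R d ∈ Q' by rw [Ideal.mem_comap, ← IsScalarTower.algebraMap_apply]; exact hd)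
        (IsLocalization.map_units R (⟨d, hdq⟩ : q.asIdeal.primeCompl)))
    have hq₁ne : q₁ ≠ q := fun he => hQm (by
      have h1 : Q' = maximalIdeal R := by
        refine le_antisymm (le_maximalIdeal (Ideal.IsPrime.ne_top inferInstance)) ?_
        rw [← IsLocalization.map_comap q.asIdeal.primeCompl R (maximalIdeal R), Ideal.map_le_iff_le_comap]
        intro d hd
        rw [IsLocalization.AtPrime.comap_maximalIdeal R q.asIdeal] at hd
        have hd' : d ∈ q₁.asIdeal := he.symm ▸ hd
        rw [Ideal.mem_comap, Ideal.mem_comap, ← IsScalarTower.algebraMap_apply]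
        exact hd'
      refine le_antisymm (le_maximalIdeal (Ideal.IsPrime.ne_top inferInstance)) ?_
      refine (AdicCompletion.maximalIdeal_eq_map (R := R)).le.trans ?_
      rw [Ideal.map_le_iff_le_comap]
      exact h1.ge)
    have hih := ih q₁ (lt_of_le_of_ne hq₁le hq₁ne)
    let S' := Localization.AtPrime Q
    haveI : IsNoetherianRing S' := IsLocalization.isNoetherianRing Q.primeCompl _ inferInstance
    haveI : IsNoetherianRing (Localization.AtPrime q₁.asIdeal) :=
      IsLocalization.isNoetherianRing q₁.asIdeal.primeCompl _ inferInstance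
    have hu : ∀ d : q₁.asIdeal.primeCompl, IsUnit (algebraMap D S' d) := fun d => by
      rw [IsScalarTower.algebraMap_apply D B S']
      exact IsLocalization.map_units S' (⟨algebraMap D B d, d.2⟩ : Q.primeCompl)
    letI : Algebra (Localization.AtPrime q₁.asIdeal) S' := (IsLocalization.lift hu).toAlgebra
    haveI : IsScalarTower D (Localization.AtPrime q₁.asIdeal) S' :=
      IsScalarTower.of_algebraMap_eq fun d => (IsLocalization.lift_eq hu d).symm
    haveI : Module.Flat D R := IsLocalization.flat R q.asIdeal.primeCompl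
    haveI : Module.Flat D B := Module.Flat.trans D R B
    haveI : Module.Flat D S' := Module.Flat.trans D B S'
    haveI : Module.Flat (Localization.AtPrime q₁.asIdeal) S' :=
      (Module.flat_iff_of_isLocalization (Localization.AtPrime q₁.asIdeal) q₁.asIdeal.primeCompl _).2 inferInstance
    have hkd : Kd J S' := kd_baseChange hih
    obtain ⟨a, ha, haP⟩ : ∃ a ∈ J, algebraMap D B a ∉ P.asIdeal := by
      by_contra hne
      push Not at hne
      exact hP (Ideal.map_le_iff_le_comap.2 hne)
    obtain ⟨i, hi, hnk⟩ := exists_not_killed_height_one JB (x := algebraMap D B a) P.asIdeal Q hPQ.le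
      (le_sup_left.trans hQ.1.2) hP hh haP 0 B (by simpa using hd)
    rcases i with - | i
    · haveI := finite_H_zero (JB.map (algebraMap B S')) (LocalizedModule Q.primeCompl B)
      exact hnk (killed_of_finite (Ideal.mem_map_of_mem _ (Ideal.mem_map_of_mem _ ha)))
    · obtain rfl : i = 0 := by omega
      refine hnk ?_
      have h := (hkd a ha).of_equiv
        ((LocalizedModule.equivTensorProduct Q.primeCompl B).trans
          (TensorProduct.AlgebraTensorModule.rid B S' S')).symm
      rw [IsScalarTower.algebraMap_eq D B S', ← Ideal.map_map] at h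
      exact h
  intro a ha
  exact (le_finDimRel_iff 2).1 (by exact_mod_cast hmin) 1 (by norm_num) _ (Ideal.mem_map_of_mem _ ha)

/-- Powers of `J` kill `H¹` at every prime. -/
theorem kd_all (h : Hyp J) (q : PrimeSpectrum D) : Kd J (Localization.AtPrime q.asIdeal) := by
  suffices H : ∀ (n : ℕ) (q : PrimeSpectrum D), q.asIdeal.height = n → Kd J (Localization.AtPrime q.asIdeal) by
    obtain ⟨n, hn⟩ := ENat.ne_top_iff_exists.1 (Ideal.height_ne_top q.isPrime.ne_top)
    exact H n q hn.symm
  intro n
  induction n using Nat.strong_induction_on with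
  | _ n ih =>
    intro q hq
    by_cases hJ : J ≤ q.asIdeal
    · obtain ⟨R, _, _, _, _, hR⟩ := h q hJ
      refine kd_step R hR fun q' hq' => ?_
      obtain ⟨m, hm⟩ := ENat.ne_top_iff_exists.1 (Ideal.height_ne_top q'.isPrime.ne_top)
      have hlt := Ideal.height_strict_mono_of_isPrime (I := q'.asIdeal) (J := q.asIdeal) hq'
      rw [hq, ← hm, Nat.cast_lt] at hlt
      exact ih m hlt q' hm.symm
    · obtain ⟨a, haJ, haq⟩ := SetLike.not_le_iff_exists.1 hJ
      exact kd_of_map_eq_top (Ideal.eq_top_of_isUnit_mem _ (Ideal.mem_map_of_mem _ haJ)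
        (IsLocalization.map_units (Localization.AtPrime q.asIdeal) (⟨a, haq⟩ : q.asIdeal.primeCompl)))

/-- **Kollár's criterion**, for the ring itself. -/
theorem finite_H_one (h : Hyp J) : Module.Finite D (LocCoh.H J 1 D) := by
  refine finite_of_locally 1 D fun p hp i hi => ?_
  haveI : IsNoetherianRing (Localization.AtPrime p) := IsLocalization.isNoetherianRing p.primeCompl _ inferInstance
  haveI : Module.Flat D (Localization.AtPrime p) := IsLocalization.flat _ p.primeCompl
  have hfin : Module.Finite (Localization.AtPrime p)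
      (LocCoh.H (J.map (algebraMap D (Localization.AtPrime p))) i (Localization.AtPrime p)) := by
    rcases i with - | i
    · exact finite_H_zero _ _
    · obtain rfl : i = 0 := by omega
      refine finite_of_killed 1 _ fun j hj x hx => ?_
      rcases j with - | j
      · haveI := finite_H_zero (J.map (algebraMap D (Localization.AtPrime p))) (Localization.AtPrime p)
        exact killed_of_finite hx
      · obtain rfl : j = 0 := by omega
        exact killed_of_mem_map (kd_all h ⟨p, hp⟩) hx
  obtain ⟨e⟩ := GrothLib.LC.nonempty_baseChange_equiv (R' := Localization.AtPrime p) J i D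
  haveI : Module.Finite (Localization.AtPrime p)
      ((localCohomology (J.map (algebraMap D (Localization.AtPrime p))) i).obj
        (ModuleCat.of (Localization.AtPrime p) ((Localization.AtPrime p) ⊗[D] D))) :=
    haveI := hfin
    Module.Finite.equiv ((localCohomology (J.map (algebraMap D (Localization.AtPrime p))) i).mapIso
      (TensorProduct.AlgebraTensorModule.rid D (Localization.AtPrime p)
        (Localization.AtPrime p)).symm.toModuleIso).toLinearEquiv
  exact Module.Finite.equiv (e.symm.trans (LocalizedModule.equivTensorProduct p.primeCompl _).symm)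

end GrothLib.Kollar3
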